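import Cfsg.Agent.Omega.ML.ExEx.SheetRow
import Cfsg.Agent.Omega.ML.RowFi24

/-!
# K-list "exact + low": the row `Fi24'` (helper96, over helper39's sheet)
-/

set_option autoImplicit false

namespace Cfsg.Agent.Omega.ML.ExEx.RowFi24

open Subgroup Cfsg Cfsg.Agent.Omega.ML.Ex Cfsg.Agent.Omega.ML.ExRec Cfsg.Agent.Omega.ML.ExFi24 Cfsg.Agent.OddHalf
open Cfsg.Agent.KFacts.FiTF Cfsg.Agent.KFacts.FiTF.Defs

universe u v

/-- **The row `Fi24'`.** -/
theorem deadX : DeadX.{u, v} @Spor.IsoFi24' := by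
  refine SheetRow.deadX_of_sheet fun S _ _ h => ?_
  have : Finite Spor.Fi24 := Cfsg.Agent.R08.FiTwentyFour.finite_Fi24
  obtain ⟨e⟩ := h
  refine ⟨_, _, _, 6, D8.SheetMap.sheetE_map e.symm sheetE, by norm_num, ?_, ?_⟩
  · have h1 := Abs.card_RK frame
    rw [← Nat.card_congr (equivMapOfInjective _ e.symm.toMonoidHom e.symm.injective).toEquiv]
    rw [h1]; norm_num
  · rw [D8.SheetMap.centralizer_map]
    exact TrivC.map e.symm Cfsg.Agent.Omega.ML.RowFi24.triv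

end Cfsg.Agent.Omega.ML.ExEx.RowFi24
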