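import Cfsg.Agent.Omega.ML.ExEx.SheetRow
import Cfsg.Agent.Omega.ML.RowHN

/-!
# K-list "exact + low": the row `HN` (helper96)
-/

set_option autoImplicit false

namespace Cfsg.Agent.Omega.ML.ExEx.RowHN

open Subgroup Cfsg Cfsg.Agent.Omega.ML.ExRec Cfsg.Agent.OddHalf.D8 Cfsg.Agent.Omega.ML.Ex

universe u v

/-- **The row `HN`.** -/
theorem deadX : DeadX.{u, v} @Spor.IsoHN := by
  refine SheetRow.deadX_of_sheet fun S _ _ hS => ?_
  obtain ⟨e⟩ := hS
  refine ⟨_, _, _, 4, SheetMap.sheetE_map e.symm Cfsg.Agent.KFacts.HN.sheetE, by norm_num, ?_, ?_⟩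
  · rw [card_map_of_injective e.symm.injective]
    exact ExHN.card
  · rw [SheetMap.centralizer_map]
    exact Cfsg.Agent.Omega.ML.RowHN.trivC_map e.symm ExHN.rec_hn.triv

end Cfsg.Agent.Omega.ML.ExEx.RowHN
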