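import Cfsg.Agent.Omega.ML.ExRow

/-!
# K-list "exact + low": THEOREM EX in the exact form, the module part (helper96)

* `core2` : a 2-group `Q` normal in `L`, all of whose proper `E`-invariant subgroups have index at least `2 ^ (2w)`, acts
  on every `L`-module `N` of order at most `2 ^ (2w+1)` trivially, or `[N, Q]` has index 2 or order 2 (`TrivOn L E (2 ^ w)`).
-/

set_option autoImplicit false

namespace Cfsg.Agent.Omega.ML.ExEx.Core

open Subgroup Cfsg.Agent.Omega.NOThree.NoOver Cfsg.Agent.Omega.ML.ExCore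

universe u v w u'

variable {L : Type u} [Group L] {N : Type v} [Group N] [MulDistribMulAction L N]

/-- **The module part of THEOREM EX, exact form** -/
theorem core2 [Finite L] [Finite N] (sq : ∀ x : N, x * x = 1) {Q E : Subgroup L} (hQ : Q.Normal) (h2 : IsPGroup 2 Q)
    {w : ℕ} (hN : Nat.card N ≤ 2 ^ (2 * w + 1))
    (irr : ∀ D ≤ Q, (∀ l ∈ E, ∀ q ∈ D, l * q * l⁻¹ ∈ D) → 2 ^ (2 * w) ≤ D.relIndex Q ∨ D = Q)
    (tr : TrivOn.{u, v} L E (2 ^ w)) : (∀ q ∈ Q, ∀ n : N, q • n = n) ∨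
    ∃ N₁ : Subgroup N, (∀ (l : L), ∀ x ∈ N₁, l • x ∈ N₁) ∧ (∀ q ∈ Q, ∀ n : N, q • n * n⁻¹ ∈ N₁) ∧
      (∀ q ∈ Q, ∀ x ∈ N₁, q • x = x) ∧ (N₁.index = 2 ∨ Nat.card N₁ = 2) := by
  by_cases hcon : ∀ q ∈ Q, ∀ n : N, q • n = n
  · exact Or.inl hcon
  right
  push Not at hcon
  obtain ⟨q₀, hq₀, n₀, hn₀⟩ := hcon
  obtain ⟨N₁, hN₁⟩ : ∃ N₁, N₁ = br N Q ⊤ := ⟨_, rfl⟩
  have hinv1 : ∀ (l : L), ∀ x ∈ N₁, l • x ∈ N₁ := by
    rw [hN₁]
    exact fun l x hx => smul_mem_br hQ (fun _ _ _ => mem_top _) l hx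
  obtain ⟨N₂, hN₂⟩ : ∃ N₂, N₂ = br N Q N₁ := ⟨_, rfl⟩
  have hinv2 : ∀ (l : L), ∀ x ∈ N₂, l • x ∈ N₂ := by
    rw [hN₂]
    exact fun l x hx => smul_mem_br hQ hinv1 l hx
  have hb1 : ∀ q ∈ Q, ∀ n : N, q • n * n⁻¹ ∈ N₁ := fun q hq n => by
    rw [hN₁]; exact mem_br hq (mem_top n)
  have hb2 : ∀ q ∈ Q, ∀ n ∈ N₁, q • n * n⁻¹ ∈ N₂ := fun q hq n hn => by
    rw [hN₂]; exact mem_br hq hn
  have hne1 : N₁ ≠ ⊥ := by
    intro h
    have h1 := hb1 q₀ hq₀ n₀
    rw [h, mem_bot, mul_inv_eq_one] at h1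
    exact hn₀ h1
  have htop : (⊤ : Subgroup N) ≠ ⊥ := fun h => hne1 (le_bot_iff.1 (h ▸ le_top))
  have hne2 : N₁ ≠ ⊤ := by
    rw [hN₁]
    exact br_ne sq h2 (fun _ _ _ _ => mem_top _) htop
  have hlt2 : N₂ < N₁ := by
    refine lt_of_le_of_ne ?_ ?_
    · rw [hN₂]
      exact br_le fun q _ x hx => hinv1 q x hx
    · rw [hN₂]
      exact br_ne sq h2 (fun q _ x hx => hinv1 q x hx) hne1
  have hcard := card_mul_index N₁
  have hi : 2 ≤ N₁.index := by
    have h3 : N₁.index ≠ 0 := index_ne_zero_of_finite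
    have h4 : N₁.index ≠ 1 := fun e => hne2 (index_eq_one.1 e)
    omega
  have hc : 2 ≤ Nat.card N₁ := (one_lt_card_iff_ne_bot N₁).2 hne1
  have hpw : 2 ^ (2 * w + 1) = 2 * 2 ^ (2 * w) := by rw [pow_succ, mul_comm]
  -- if `N₂ = 1` then `Q` centralises `N₁`
  have hfix : N₂ = ⊥ → ∀ q ∈ Q, ∀ x ∈ N₁, q • x = x := fun h q hq x hx => by
    have h3 := hb2 q hq x hx
    rwa [h, mem_bot, mul_inv_eq_one] at h3
  by_cases hcase : N₁.index ≤ 2 ^ w
  · -- `L` is trivial on `N / N₁`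
    have htr : ∀ l ∈ E, ∀ x : N, l • x * x⁻¹ ∈ N₁ := fun l hl x =>
      tr.sec sq hinv1 (V := ⊤) (fun _ _ _ => mem_top _) (by rwa [relIndex_top_right]) hl (mem_top x)
    obtain ⟨n, q₁, hq₁, hn⟩ : ∃ n : N, ∃ q ∈ Q, q • n * n⁻¹ ∉ N₂ := by
      by_contra hc
      push Not at hc
      have h3 : N₁ ≤ N₂ := by
        rw [hN₁, br_le_iff]
        exact fun q hq y _ => hc y q hq
      exact absurd h3 (not_le_of_gt hlt2)
    have hU : ∀ q ∈ Q, ∀ x ∈ N₂, q • x ∈ N₂ := fun q _ x hx => hinv2 q x hx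
    have hD : ∀ l ∈ E, ∀ q ∈ dn Q N₂ hU n, l * q * l⁻¹ ∈ dn Q N₂ hU n := by
      refine fun l hl q hq => ⟨hQ.conj_mem q hq.1 l, ?_⟩
      have h3 := hb2 q hq.1 _ (htr l⁻¹ (E.inv_mem hl) n)
      have h4 : l⁻¹ • n = (l⁻¹ • n * n⁻¹) * n := by group
      have h5 : q • (l⁻¹ • n) * (l⁻¹ • n)⁻¹ ∈ N₂ := by
        have h6 : (l⁻¹ • n * n⁻¹) * n ∈ cn sq q N₂ := mul_mem h3 hq.2
        rw [← h4] at h6
        exact h6
      have h7 := hinv2 l _ h5
      rw [smul_mul', smul_inv', smul_inv_smul, ← mul_smul, ← mul_smul] at h7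
      exact h7
    rcases irr (dn Q N₂ hU n) (fun q hq => hq.1) hD with h3 | h3
    · have h4 := relIndex_dn_le sq hU (W := N₁) (fun q hq => hb1 q hq n) hb2
      have h5 : Nat.card N₂ * N₂.relIndex N₁ = Nat.card N₁ := by
        rw [← relIndex_bot_left, ← relIndex_bot_left N₁]
        exact relIndex_mul_relIndex _ _ _ bot_le hlt2.le
      have h6 : 2 ^ (2 * w) ≤ N₂.relIndex N₁ := h3.trans h4
      have h7 : 0 < Nat.card N₂ := Nat.card_pos
      have h8 : 0 < 2 ^ (2 * w) := by positivity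
      -- `|N₁| ≥ |N₂| 2^(2w)`, `|N₁| |N : N₁| ≤ 2 * 2^(2w)`
      have h9 : Nat.card N₂ * 2 ^ (2 * w) * N₁.index ≤ 2 * 2 ^ (2 * w) := by
        calc Nat.card N₂ * 2 ^ (2 * w) * N₁.index ≤ Nat.card N₂ * N₂.relIndex N₁ * N₁.index :=
              Nat.mul_le_mul_right _ (Nat.mul_le_mul_left _ h6)
          _ = Nat.card N := by rw [h5, hcard]
          _ ≤ 2 * 2 ^ (2 * w) := by rw [← hpw]; exact hN
      have h10 : Nat.card N₂ * N₁.index ≤ 2 := by
        have e : Nat.card N₂ * 2 ^ (2 * w) * N₁.index = (Nat.card N₂ * N₁.index) * 2 ^ (2 * w) := by ring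
        rw [e] at h9
        exact Nat.le_of_mul_le_mul_right h9 h8
      have h11 : N₁.index = 2 := by nlinarith
      have h12 : Nat.card N₂ = 1 := by
        rw [h11] at h10
        omega
      have h13 : N₂ = ⊥ := card_eq_one.1 h12
      exact ⟨N₁, hinv1, hb1, hfix h13, Or.inl h11⟩
    · have h4 : q₁ ∈ dn Q N₂ hU n := by rw [h3]; exact hq₁
      exact absurd h4.2 hn
  · -- `L` is trivial on `N₁`
    have hcase' : Nat.card N₁ ≤ 2 ^ w := by
      by_contra hc'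
      rw [not_le] at hcase hc'
      -- both are powers of 2
      have hp : ∃ a, Nat.card N₁ = 2 ^ a := by
        have hp2 : IsPGroup 2 N₁ := fun x => ⟨1, by rw [pow_one, pow_two]; exact Subtype.ext (sq x)⟩
        exact (IsPGroup.iff_card (p := 2)).1 hp2
      obtain ⟨a, ha⟩ := hp
      rw [ha] at hc'
      have ha' : w + 1 ≤ a := (Nat.pow_lt_pow_iff_right (by norm_num)).1 hc'
      have h3 : 2 ^ (w + 1) ≤ Nat.card N₁ := by rw [ha]; exact Nat.pow_le_pow_right (by norm_num) ha'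
      have h4 : 2 ^ (w + 1) * 2 ^ w < Nat.card N₁ * N₁.index :=
        lt_of_lt_of_le (Nat.mul_lt_mul_of_pos_left hcase (by positivity)) (Nat.mul_le_mul_right _ h3)
      rw [hcard, ← pow_add] at h4
      have h5 : w + 1 + w = 2 * w + 1 := by ring
      rw [h5] at h4
      omega
    have htr : ∀ l ∈ E, ∀ x ∈ N₁, l • x = x := by
      intro l hl x hx
      have h3 := tr.sec sq (U := ⊥) (V := N₁) (fun l x hx => by rw [mem_bot.1 hx, smul_one]; exact one_mem _)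
        hinv1 (by rwa [relIndex_bot_left]) hl hx
      rwa [mem_bot, mul_inv_eq_one] at h3
    obtain ⟨Y, hY1, -, hY2, hY3⟩ := exists_max (p := fun _ => True) trivial hlt2
    obtain ⟨v, hv, hvY⟩ := SetLike.exists_of_lt hY2
    have hsup : N₁ = Y ⊔ zpowers v := by
      by_contra hc
      have h2 : Y < Y ⊔ zpowers v := lt_of_le_of_ne le_sup_left fun h => hvY (h ▸ le_sup_zpowers Y v)
      have h3 : Y ⊔ zpowers v ≤ N₁ := sup_le hY2.le (zpowers_le.2 hv)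
      exact hY3 _ h2 trivial (lt_of_le_of_ne h3 (Ne.symm hc))
    have hYi : Y.relIndex N₁ ≤ 2 := by
      have hn := normal_of_sq sq Y
      rw [hsup, sup_comm, relIndex_sup_right]
      have h3 : Y.relIndex (zpowers v) ≤ Nat.card (zpowers v) := Nat.le_of_dvd Nat.card_pos (relIndex_dvd_card _ _)
      rw [Nat.card_zpowers] at h3
      exact h3.trans (orderOf_le_of_pow_eq_one (by norm_num) (by rw [pow_two]; exact sq v))
    have hYinv : ∀ l ∈ E, ∀ x ∈ Y, l • x ∈ Y := fun l hl x hx => by rwa [htr l hl x (hY2.le hx)]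
    have hU : ∀ q ∈ Q, ∀ x ∈ Y, q • x ∈ Y := fun q hq x hx => by
      have h3 := Y.mul_mem (hY1 (hb2 q hq x (hY2.le hx))) hx
      rwa [inv_mul_cancel_right] at h3
    have hD : ∀ l ∈ E, ∀ q ∈ dv Q Y hU ⊤, l * q * l⁻¹ ∈ dv Q Y hU ⊤ := by
      intro l hl q hq
      rw [mem_dv] at hq ⊢
      refine ⟨hQ.conj_mem q hq.1 l, fun n _ => ?_⟩
      have h7 := hYinv l hl _ (hq.2 (l⁻¹ • n) (mem_top _))
      rwa [smul_mul', smul_inv', smul_inv_smul, ← mul_smul, ← mul_smul] at h7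
    rcases irr (dv Q Y hU ⊤) (fun q hq => (mem_dv.1 hq).1) hD with h3 | h3
    · have h4 := relIndex_dv_le sq hU (N₁ := N₁) (fun n q hq => hb1 q hq n) (fun q hq x hx => hY1 (hb2 q hq x hx)) hYi ⊤
        le_top
      rw [relIndex_top_right] at h4
      have h5 : 2 ^ (2 * w) ≤ N₁.index := h3.trans h4
      have h6 : Nat.card N₁ * 2 ^ (2 * w) ≤ 2 * 2 ^ (2 * w) := by
        calc Nat.card N₁ * 2 ^ (2 * w) ≤ Nat.card N₁ * N₁.index := Nat.mul_le_mul_left _ h5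
          _ = Nat.card N := hcard
          _ ≤ 2 * 2 ^ (2 * w) := by rw [← hpw]; exact hN
      have h7 : Nat.card N₁ ≤ 2 := Nat.le_of_mul_le_mul_right h6 (by positivity)
      have h8 : Nat.card N₁ = 2 := le_antisymm h7 hc
      have h9 : N₂ = ⊥ := by
        by_contra h10
        have h11 : 2 ≤ Nat.card N₂ := (one_lt_card_iff_ne_bot N₂).2 h10
        exact hlt2.ne (eq_of_le_of_card_ge hlt2.le (by omega))
      exact ⟨N₁, hinv1, hb1, hfix h9, Or.inr h8⟩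
    · have h4 : N₁ ≤ Y := by
        rw [hN₁, br_le_iff]
        intro q hq n _
        rw [← h3] at hq
        exact (mem_dv.1 hq).2 n (mem_top n)
      exact absurd h4 (not_le_of_gt hY2)

end Cfsg.Agent.Omega.ML.ExEx.Core
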