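import Cfsg.Agent.Omega.ML.ExEx.Kill

/-!
# K-list "exact + low": THEOREM EX in the exact form (helper96)

* `Dat.false_ex` : in the situation `Dat H G E Q n`, `n ≥ 2`, there is no `A ≤ Q` with `|A| > 2`, `|M| ≤ |A||C_M(A)|`, if
  every central element `z ≠ 1` of `Q` has a conjugate which commutes with `z`, normalises `Q` and moves `Q / ⟨z⟩`
  (no atom, no sub-exactness, `A` need not be abelian).
-/

set_option autoImplicit false

namespace Cfsg.Agent.Omega.ML.ExEx.DatEx

open Subgroup Cfsg Cfsg.Agent.ClassTwoFusion.Quad Cfsg.Agent.Omega.NOThree.NoOver Cfsg.Agent.Omega.ML.CD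
open Cfsg.Agent.ZN (o2)
open Cfsg.Agent.Omega.ML.Rows Cfsg.Agent.Omega.ML.ExCore Cfsg.Agent.Omega.ML.ExRec Cfsg.Agent.Omega.ML.ExRow
open Cfsg.Agent.Omega.ML.ExEx.Core Cfsg.Agent.Omega.ML.ExEx.Kill

universe u v w

section

variable {H : Type u} [Group H] [Finite H] {M : Type v} [Group M] [Finite M] [MulDistribMulAction H M]
  {G E Q A : Subgroup H} {n : ℕ}

omit [Finite H] in
theorem exists_of_card_le_two {H : Type u} [Group H] [Finite H] {D : Subgroup H} (h : Nat.card D ≤ 2) : ∃ z : H, ∀ d ∈ D, d = 1 ∨ d = z := by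
  by_cases h1 : ∀ d ∈ D, d = 1
  · exact ⟨1, fun d hd => Or.inl (h1 d hd)⟩
  · push Not at h1
    obtain ⟨z, hz, hz1⟩ := h1
    refine ⟨z, fun d hd => ?_⟩
    by_contra hc
    push Not at hc
    have h2 : ({1, z, d} : Set H) ⊆ D := by
      rintro x (rfl | rfl | rfl)
      · exact D.one_mem
      · exact hz
      · exact hd
    have h3 := Set.ncard_le_ncard h2 (Set.toFinite _)
    have h4 : ({1, z, d} : Set H).ncard = 3 := by
      rw [Set.ncard_insert_of_notMem, Set.ncard_pair (Ne.symm hc.2)]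
      rintro (h5 | h5)
      · exact hz1 h5.symm
      · exact hc.1 h5.symm
    have h5 : (D : Set H).ncard = Nat.card D := rfl
    omega

/-- `Q` is strict or everything is exact -/
theorem index_eq_of_dat (D : Dat.{u, v} H G E Q n) (sq : ∀ m : M, m * m = 1)
    (faith : ∀ h : H, (∀ m : M, h • m = m) → h = 1) (hAQ : A ≤ Q) (hge : Nat.card M ≤ fab M 1 1 A)
    (h2 : 2 < Nat.card A) : (cv M (Q : Set H)).index = Nat.card Q := by
  have hf := ls_fab (H := H) M 1 1
  have hGQ : G ≤ normalizer (Q : Set H) := by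
    intro g hg
    rw [mem_normalizer_iff]
    intro x
    refine ⟨fun hx => D.nQ g hg x hx, fun hx => ?_⟩
    have h5 := D.nQ g⁻¹ (G.inv_mem hg) _ hx
    have h6 : g⁻¹ * (g * x * g⁻¹) * g⁻¹⁻¹ = x := by group
    rwa [h6] at h5
  by_cases hfl : ∀ B ≤ Q, fab M 1 1 B ≤ fab M 1 1 (⊥ : Subgroup H)
  · -- `Q` is exact
    have hbot : fab M 1 1 (⊥ : Subgroup H) = Nat.card M := by rw [fab_bot, pow_one]
    have hA : Best (fab M 1 1) Q A := ⟨hAQ, fun B hB => (hfl B hB).trans (by rw [hbot]; exact hge)⟩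
    have hhi : hi (fab M 1 1) Q = Q := by
      have h5 := hGQ.trans (hf.normalizer_le_hi Q)
      refine (D.irr _ (hf.hi_le_self Q) fun l hl x hx => ?_).resolve_left fun h6 => ?_
      · exact (mem_normalizer_iff.1 (h5 (D.EG hl)) x).1 hx
      · have h7 := card_le_of_le (le_hi hA)
        omega
    have h8 := (hf.best_hi Q).2 ⊥ bot_le
    rw [hhi] at h8
    have h9 := le_antisymm (hfl Q le_rfl) h8
    rw [hbot, fab_one, fo, ← card_mul_index (cv M (Q : Set H)), mul_comm] at h9
    exact (Nat.eq_of_mul_eq_mul_left Nat.card_pos h9).symm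
  · -- `Q` is strict
    exfalso
    have hne : lo (fab M 1 1) Q ≠ ⊥ := by
      intro h
      exact hfl ((lo_eq_bot_iff hf).1 h)
    have hst := hf.strict_lo Q
    have h5 := hGQ.trans (hf.normalizer_le_lo Q)
    have hlo : lo (fab M 1 1) Q = Q := by
      refine (D.irr _ (hf.lo_le_self Q) fun l hl x hx => ?_).resolve_left fun h6 => ?_
      · exact (mem_normalizer_iff.1 (h5 (D.EG hl)) x).1 hx
      · -- a strict subgroup of order 2
        have h7 := hst ⊥ (bot_lt_iff_ne_bot.2 hne)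
        rw [fab_lt_iff bot_le, pow_one, pow_one, relIndex_bot_left, cv_bot, relIndex_top_right] at h7
        have h8 : (cv M (lo (fab M 1 1) Q : Set H)).index < 2 := lt_of_lt_of_le h7 h6
        have h9 : (cv M (lo (fab M 1 1) Q : Set H)).index ≠ 0 := index_ne_zero_of_finite
        have h10 : cv M (lo (fab M 1 1) Q : Set H) = ⊤ := index_eq_one.1 (by omega)
        apply hne
        rw [eq_bot_iff]
        intro x hx
        rw [mem_bot]
        apply faith
        intro m
        have h11 : m ∈ cv M (lo (fab M 1 1) Q : Set H) := h10 ▸ mem_top m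
        exact h11 x hx
    rw [hlo] at hst
    exact D.false sq faith le_rfl hst (lt_of_lt_of_le h2 (card_le_of_le hAQ))

/-- **THEOREM EX, exact form** -/
theorem _root_.Cfsg.Agent.Omega.ML.ExRow.Dat.false_ex (D : Dat.{u, v} H G E Q n) (hn : 2 ≤ n)
    (sq : ∀ m : M, m * m = 1) (faith : ∀ h : H, (∀ m : M, h • m = m) → h = 1)
    (hAQ : A ≤ Q) (hge : Nat.card M ≤ fab M 1 1 A) (h2 : 2 < Nat.card A)
    (yt : ∀ z ∈ Q, z ≠ 1 → (∀ q ∈ Q, z * q = q * z) → ∃ k : H, (k * z * k⁻¹) * z = z * (k * z * k⁻¹) ∧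
      (∀ q ∈ Q, (k * z * k⁻¹) * q * (k * z * k⁻¹)⁻¹ ∈ Q) ∧
      ∃ q ∈ Q, (k * z * k⁻¹) * q * (k * z * k⁻¹)⁻¹ * q⁻¹ ≠ 1 ∧ (k * z * k⁻¹) * q * (k * z * k⁻¹)⁻¹ * q⁻¹ ≠ z) :
    False := by
  have hcomm := ExCore.comm_of_sq (N := M) sq
  have hidx := index_eq_of_dat D sq faith hAQ hge h2
  obtain ⟨F, hF⟩ : ∃ F : Subgroup M, F = cv M (Q : Set H) := ⟨_, rfl⟩
  have hmF : ∀ {m : M}, m ∈ F ↔ ∀ q ∈ Q, q • m = m := by
    intro m
    rw [hF]
    exact Iff.rfl
  rw [← hF, D.card] at hidx
  have hFn : F.Normal := normal_of_sq sq F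
  have hidx' : Nat.card (M ⧸ F) ≤ 2 ^ (2 * n + 1) := hidx.le
  -- `G` acts on `M / F`
  have hFG : ∀ (g : G), ∀ x ∈ F, g • x ∈ F := by
    intro g x hx
    rw [hmF] at hx ⊢
    intro q hq
    have h1 := D.nQ _ (G.inv_mem g.2) q hq
    rw [inv_inv] at h1
    have h2 := hx _ h1
    change q • (g : H) • x = (g : H) • x
    rw [mul_smul, mul_smul, inv_smul_eq_iff] at h2
    exact h2
  let _ : MulDistribMulAction G (M ⧸ F) := quoA (L := G) F hFG
  have hQn : (Q.subgroupOf G).Normal := ⟨fun q hq g => D.nQ g g.2 q hq⟩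
  have hcore := core2 (L := G) (N := M ⧸ F) (fun x => by
      obtain ⟨m, rfl⟩ := QuotientGroup.mk_surjective x
      exact congrArg (QuotientGroup.mk (s := F)) (sq m)) (Q := Q.subgroupOf G) (E := E.subgroupOf G) hQn
    (D.two.comap_of_injective _ G.subtype_injective) hidx' (by
      intro B hB hBE
      have h1 : B.map G.subtype ≤ Q := by
        rintro _ ⟨b, hb, rfl⟩
        exact hB hb
      have h3 : Nat.card (B.map G.subtype) = Nat.card B := card_map_of_injective G.subtype_injective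
      have h4 : B.relIndex (Q.subgroupOf G) = (B.map G.subtype).relIndex Q := by
        have h5 : (Q.subgroupOf G).map G.subtype = Q := by rw [subgroupOf_map_subtype, inf_eq_left.2 D.QG]
        rw [← relIndex_map_map_of_injective B (Q.subgroupOf G) G.subtype_injective, h5]
      rcases D.irr _ h1 (by
        rintro l hl _ ⟨b, hb, rfl⟩
        exact ⟨⟨l, D.EG hl⟩ * b * ⟨l, D.EG hl⟩⁻¹, hBE ⟨l, D.EG hl⟩ hl b hb, rfl⟩) with h6 | h6
      · left
        rw [h4]
        exact D.le_relIndex h1 h6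
      · right
        ext x
        rw [mem_subgroupOf, ← h6]
        constructor
        · intro hx
          exact ⟨x, hx, rfl⟩
        · rintro ⟨y, hy, hyx⟩
          rwa [← Subtype.ext hyx]) D.triv
  -- the elements of `Q` trivial on `M / F`
  let DD : Subgroup H :=
    { carrier := {q | q ∈ Q ∧ ∀ m : M, q • m * m⁻¹ ∈ F}
      one_mem' := ⟨Q.one_mem, fun m => by rw [one_smul, mul_inv_cancel]; exact F.one_mem⟩
      mul_mem' := fun {a b} ha hb => ⟨Q.mul_mem ha.1 hb.1, fun m => by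
        rw [d_mul]
        refine F.mul_mem ?_ (ha.2 m)
        have h3 := F.mul_mem (ha.2 (b • m * m⁻¹)) (hb.2 m)
        rwa [inv_mul_cancel_right] at h3⟩
      inv_mem' := fun {a} ha => ⟨Q.inv_mem ha.1, fun m => by
        have h3 := F.inv_mem (ha.2 (a⁻¹ • m))
        rw [smul_inv_smul, mul_inv_rev, inv_inv] at h3
        exact h3⟩ }
  have hDD : ∀ {q : H}, q ∈ DD ↔ q ∈ Q ∧ ∀ m : M, q • m * m⁻¹ ∈ F := Iff.rfl
  have hDDinv : ∀ l ∈ E, ∀ x ∈ DD, l * x * l⁻¹ ∈ DD := by
    intro l hl x hx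
    refine ⟨D.nQ l (D.EG hl) x hx.1, fun m => ?_⟩
    have h3 := hFG ⟨l, D.EG hl⟩ _ (hx.2 (l⁻¹ • m))
    change l • (x • (l⁻¹ • m) * (l⁻¹ • m)⁻¹) ∈ F at h3
    rw [smul_mul', smul_inv', smul_inv_smul] at h3
    rw [mul_smul, mul_smul]
    exact h3
  rcases D.irr DD (fun q hq => hq.1) hDDinv with hDD2 | hDDQ
  · -- the equality cases
    obtain ⟨z, hz⟩ := exists_of_card_le_two hDD2
    rcases hcore with hcore | ⟨N₁, hinv, hb1, hfix, hcase⟩
    · -- `Q` is trivial on `M / F`
      have h3 : Q ≤ DD := by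
        intro q hq
        refine ⟨hq, fun m => ?_⟩
        have h1 := hcore ⟨q, D.QG hq⟩ hq (QuotientGroup.mk m)
        have h2 : (QuotientGroup.mk (q • m) : M ⧸ F) = QuotientGroup.mk m := h1
        rw [eq_comm, QuotientGroup.eq] at h2
        rwa [hcomm] at h2
      have h4 := card_le_of_le h3
      have h5 := card_le_of_le hAQ
      omega
    · obtain ⟨M₁, hM₁⟩ : ∃ M₁ : Subgroup M, M₁ = N₁.comap (QuotientGroup.mk' F) := ⟨_, rfl⟩
      have hmM : ∀ {m : M}, m ∈ M₁ ↔ (QuotientGroup.mk m : M ⧸ F) ∈ N₁ := by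
        intro m
        rw [hM₁]
        exact Iff.rfl
      have S : Sit Q F M₁ z := by
        refine ⟨sq, faith, ?_, ?_, ?_, ?_, ?_, D.nab⟩
        · intro m hm
          rw [hmM, (QuotientGroup.eq_one_iff m).2 hm]
          exact N₁.one_mem
        · intro q hq x hx
          exact hmF.1 hx q hq
        · intro q hq m
          rw [hmM]
          exact hb1 ⟨q, D.QG hq⟩ hq (QuotientGroup.mk m)
        · intro q hq x hx
          have h3 := hfix ⟨q, D.QG hq⟩ hq (QuotientGroup.mk x) (hmM.1 hx)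
          have h4 : (QuotientGroup.mk (q • x) : M ⧸ F) = QuotientGroup.mk x := h3
          rw [eq_comm, QuotientGroup.eq] at h4
          rwa [hcomm] at h4
        · intro q hq h3
          exact hz q ⟨hq, h3⟩
      rcases hcase with hcase | hcase
      · -- `|M : M₁| = 2`
        have hi2 : M₁.index = 2 := by
          rw [hM₁, index_comap_of_surjective _ (QuotientGroup.mk'_surjective F)]
          exact hcase
        obtain ⟨k, hk1, hk2, q, hq, hk3, hk4⟩ := yt z S.z_mem S.z_ne fun q hq => (S.z_comm hq).symm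
        refine S.false_tv (k := k) (q := q) (fun x y hx hy => ?_) ?_ ?_ hk1 hk2 hq hk3 hk4
        · rw [mul_mem_iff_of_index_two hi2]
          exact ⟨fun h => absurd h hx, fun h => absurd (M₁.inv_mem_iff.1 h) hy⟩
        · by_contra hc
          push Not at hc
          have h3 : M₁ = ⊤ := (eq_top_iff' M₁).2 hc
          rw [h3, index_top] at hi2
          omega
        · intro r hr hrc
          -- the centre of `Q`
          let ZZ : Subgroup H := Q ⊓ centralizer (Q : Set H)
          have hZZ : ∀ l ∈ E, ∀ x ∈ ZZ, l * x * l⁻¹ ∈ ZZ := by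
            intro l hl x hx
            refine ⟨D.nQ l (D.EG hl) x hx.1, mem_centralizer_iff.2 fun y hy => ?_⟩
            have h3 := D.nQ l⁻¹ (G.inv_mem (D.EG hl)) y hy
            have h4 := mem_centralizer_iff.1 hx.2 _ h3
            calc y * (l * x * l⁻¹) = l * ((l⁻¹ * y * l⁻¹⁻¹) * x) * l⁻¹ := by group
              _ = l * (x * (l⁻¹ * y * l⁻¹⁻¹)) * l⁻¹ := by rw [h4]
              _ = l * x * l⁻¹ * y := by group
          rcases D.irr ZZ inf_le_left hZZ with h3 | h3
          · obtain ⟨z', hz'⟩ := exists_of_card_le_two h3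
            have h4 : z ∈ ZZ := ⟨S.z_mem, mem_centralizer_iff.2 fun y hy => S.z_comm hy⟩
            have h5 := (hz' z h4).resolve_left S.z_ne
            have h6 : r ∈ ZZ := ⟨hr, mem_centralizer_iff.2 fun y hy => (hrc y hy).symm⟩
            rw [h5]
            exact hz' r h6
          · exfalso
            obtain ⟨a, ha, b, hb, hab⟩ := D.nab
            have h4 : b ∈ ZZ := by rw [h3]; exact hb
            exact hab (mem_centralizer_iff.1 h4.2 a ha)
      · -- `|M₁ / F| = 2`
        refine S.false_two (fun x hx y hy hxF hyF => ?_) ?_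
        · have h3 : (QuotientGroup.mk x : M ⧸ F) ≠ 1 := fun h => hxF ((QuotientGroup.eq_one_iff x).1 h)
          have h4 : (QuotientGroup.mk y : M ⧸ F) ≠ 1 := fun h => hyF ((QuotientGroup.eq_one_iff y).1 h)
          have hfin : Finite (M ⧸ F) := inferInstance
          obtain ⟨w, hw⟩ : ∃ w : M ⧸ F, ∀ d ∈ N₁, d = 1 ∨ d = w := exists_of_card_le_two hcase.le
          have h5 := (hw _ (hmM.1 hx)).resolve_left h3
          have h6 := (hw _ (hmM.1 hy)).resolve_left h4
          have h7 : (QuotientGroup.mk (x * y) : M ⧸ F) = 1 := by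
            rw [QuotientGroup.mk_mul, h5, h6.symm, ← QuotientGroup.mk_mul, sq, QuotientGroup.mk_one]
          exact (QuotientGroup.eq_one_iff _).1 h7
        · rw [D.card]
          calc 8 < 2 ^ (2 * 2 + 1) := by norm_num
            _ ≤ 2 ^ (2 * n + 1) := Nat.pow_le_pow_right (by norm_num) (by omega)
  · -- `Q` is trivial on `M / F`
    obtain ⟨a, ha, b, hb, hab⟩ := D.nab
    apply hab
    have hQF : ∀ q ∈ Q, ∀ m : M, q • m * m⁻¹ ∈ F := fun q hq => by
      have h3 : q ∈ DD := by rw [hDDQ]; exact hq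
      exact h3.2
    have key : ∀ a ∈ Q, ∀ b ∈ Q, ∀ m : M, (a * b) • m = (b • m * m⁻¹) * ((a • m * m⁻¹) * m) := by
      intro a ha b hb m
      have h1 := hmF.1 (hQF b hb m) a ha
      have h3 : b • m = (b • m * m⁻¹) * m := by rw [inv_mul_cancel_right]
      rw [mul_smul]
      conv_lhs => rw [h3, smul_mul', h1]
      rw [inv_mul_cancel_right]
    have h1 : (b * a)⁻¹ * (a * b) = 1 := by
      apply faith
      intro m
      rw [mul_smul, inv_smul_eq_iff, key a ha b hb, key b hb a ha, ← mul_assoc (b • m * m⁻¹),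
        hcomm (b • m * m⁻¹) (a • m * m⁻¹), mul_assoc]
    exact (inv_mul_eq_one.1 h1).symm

end

end Cfsg.Agent.Omega.ML.ExEx.DatEx
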