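import Cfsg.Agent.Omega.ML.ExEx.Core

/-!
# K-list "exact + low": THEOREM EX in the exact form, the two equality cases (helper96)

`Q` acts on `M ≥ M₁ ≥ F`, trivially on `F` and `M₁ / F` and `M / M₁`; the elements of `Q` trivial on `M / F` are `1`, `z`.

* `Sit.false_two` : `|M₁ / F| ≤ 2`, `|Q| > 8`: contradiction;
* `Sit.false_tv` : `|M : M₁| = 2`: `z` is a transvection; contradiction if a conjugate `t` of `z` commutes with `z`, normalises
  `Q` and moves `Q / ⟨z⟩`.
-/

set_option autoImplicit false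

namespace Cfsg.Agent.Omega.ML.ExEx.Kill

open Subgroup Cfsg.Agent.Omega.NOThree.NoOver Cfsg.Agent.Omega.ML.ExCore

universe u v

variable {H : Type u} [Group H] {M : Type v} [Group M] [MulDistribMulAction H M]

/-- the situation -/
structure Sit (Q : Subgroup H) (F M₁ : Subgroup M) (z : H) : Prop where
  sq : ∀ m : M, m * m = 1
  faith : ∀ h : H, (∀ m : M, h • m = m) → h = 1
  FM : F ≤ M₁
  hF : ∀ q ∈ Q, ∀ x ∈ F, q • x = x
  h1 : ∀ q ∈ Q, ∀ m : M, q • m * m⁻¹ ∈ M₁
  h2 : ∀ q ∈ Q, ∀ x ∈ M₁, q • x * x⁻¹ ∈ F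
  hD : ∀ q ∈ Q, (∀ m : M, q • m * m⁻¹ ∈ F) → q = 1 ∨ q = z
  nab : ∃ a ∈ Q, ∃ b ∈ Q, a * b ≠ b * a

theorem d_mul (a b : H) (m : M) : (a * b) • m * m⁻¹ = (a • (b • m * m⁻¹)) * (a • m * m⁻¹) := by
  rw [mul_smul, smul_mul', smul_inv']
  group

theorem d_mulr (a : H) (m n : M) (hc : ∀ a b : M, a * b = b * a) :
    a • (m * n) * (m * n)⁻¹ = (a • m * m⁻¹) * (a • n * n⁻¹) := by
  rw [smul_mul', mul_inv_rev]
  calc a • m * a • n * (n⁻¹ * m⁻¹) = a • m * (a • n * n⁻¹) * m⁻¹ := by group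
    _ = a • m * m⁻¹ * (a • n * n⁻¹) := by rw [mul_assoc, hc (a • n * n⁻¹) m⁻¹, ← mul_assoc]

theorem swap (hc : ∀ a b : M, a * b = b * a) (x y α β : M) :
    x * α * (y * β)⁻¹ = (x * β⁻¹) * (y * α⁻¹)⁻¹ := by
  rw [mul_inv_rev, mul_inv_rev, inv_inv]
  calc x * α * (β⁻¹ * y⁻¹) = x * (α * β⁻¹) * y⁻¹ := by group
    _ = x * (β⁻¹ * α) * y⁻¹ := by rw [hc α β⁻¹]
    _ = _ := by group

namespace Sit

variable {Q : Subgroup H} {F M₁ : Subgroup M} {z : H} (S : Sit Q F M₁ z)
include S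

theorem comm (a b : M) : a * b = b * a := comm_of_sq S.sq a b

theorem stab {q : H} (hq : q ∈ Q) {x : M} (hx : x ∈ M₁) : q • x ∈ M₁ := by
  have h := M₁.mul_mem (S.FM (S.h2 q hq x hx)) hx
  rwa [inv_mul_cancel_right] at h

/-- `(ab) m / (ba) m ∈ F` -/
theorem comm_F {a b : H} (ha : a ∈ Q) (hb : b ∈ Q) (m : M) : (a * b) • m * ((b * a) • m)⁻¹ ∈ F := by
  have e1 := d_mul a b m
  have e2 := d_mul b a m
  have f1 := S.h2 a ha _ (S.h1 b hb m)
  have f2 := S.h2 b hb _ (S.h1 a ha m)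
  have e3 : (a * b) • m * ((b * a) • m)⁻¹ = ((a * b) • m * m⁻¹) * ((b * a) • m * m⁻¹)⁻¹ := by group
  rw [e3, e1, e2, swap S.comm]
  exact F.mul_mem f1 (F.inv_mem f2)

/-- commutators lie in `{1, z}` -/
theorem commutator {a b : H} (ha : a ∈ Q) (hb : b ∈ Q) : a * b * a⁻¹ * b⁻¹ = 1 ∨ a * b * a⁻¹ * b⁻¹ = z := by
  refine S.hD _ (Q.mul_mem (Q.mul_mem (Q.mul_mem ha hb) (Q.inv_mem ha)) (Q.inv_mem hb)) fun m => ?_
  have key := S.comm_F ha hb
  have h3 := key ((b * a)⁻¹ • m)
  rw [smul_inv_smul, ← mul_smul] at h3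
  have e : a * b * (b * a)⁻¹ = a * b * a⁻¹ * b⁻¹ := by group
  rwa [e] at h3

/-- squares lie in `{1, z}` -/
theorem square {a : H} (ha : a ∈ Q) : a * a = 1 ∨ a * a = z := by
  refine S.hD _ (Q.mul_mem ha ha) fun m => ?_
  rw [d_mul]
  have h3 := S.h2 a ha _ (S.h1 a ha m)
  have e : a • (a • m * m⁻¹) * (a • m * m⁻¹) = (a • (a • m * m⁻¹) * (a • m * m⁻¹)⁻¹) := by
    rw [inv_eq_of_mul_eq_one_right (S.sq (a • m * m⁻¹))]
  rw [e]
  exact h3

/-- there are `a, b ∈ Q` with `[a, b] = z ≠ 1` -/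
theorem exists_comm : ∃ a ∈ Q, ∃ b ∈ Q, a * b * a⁻¹ * b⁻¹ = z ∧ z ≠ 1 := by
  obtain ⟨a, ha, b, hb, hab⟩ := S.nab
  have h3 : a * b * a⁻¹ * b⁻¹ ≠ 1 := by
    intro h
    apply hab
    calc a * b = (a * b * a⁻¹ * b⁻¹) * (b * a) := by group
      _ = b * a := by rw [h, one_mul]
  have h4 := (S.commutator ha hb).resolve_left h3
  exact ⟨a, ha, b, hb, h4, fun h5 => h3 (h4.trans h5)⟩

theorem z_ne : z ≠ 1 := by
  obtain ⟨-, -, -, -, -, h⟩ := S.exists_comm
  exact h

theorem z_mem : z ∈ Q := by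
  obtain ⟨a, ha, b, hb, h, -⟩ := S.exists_comm
  rw [← h]
  exact Q.mul_mem (Q.mul_mem (Q.mul_mem ha hb) (Q.inv_mem ha)) (Q.inv_mem hb)

/-- `z` acts trivially on `M / F` -/
theorem z_F (m : M) : z • m * m⁻¹ ∈ F := by
  obtain ⟨a, ha, b, hb, hz, -⟩ := S.exists_comm
  have key := S.comm_F ha hb
  have h3 := key ((b * a)⁻¹ • m)
  rw [smul_inv_smul, ← mul_smul] at h3
  have e : a * b * (b * a)⁻¹ = z := by rw [← hz]; group
  rwa [e] at h3

/-- `z` acts trivially on `M₁` -/
theorem z_fix {x : M} (hx : x ∈ M₁) : z • x = x := by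
  obtain ⟨a, ha, b, hb, hz, -⟩ := S.exists_comm
  have key : ∀ x' ∈ M₁, (a * b) • x' = (b * a) • x' := by
    intro x' hx'
    have e1 := d_mul a b x'
    have e2 := d_mul b a x'
    rw [S.hF a ha _ (S.h2 b hb x' hx')] at e1
    rw [S.hF b hb _ (S.h2 a ha x' hx'), S.comm (a • x' * x'⁻¹)] at e2
    exact mul_right_cancel (e1.trans e2.symm)
  have h3 := key ((b * a)⁻¹ • x) (S.stab (Q.inv_mem (Q.mul_mem hb ha)) hx)
  rw [smul_inv_smul, ← mul_smul] at h3
  have e : a * b * (b * a)⁻¹ = z := by rw [← hz]; group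
  rwa [e] at h3

/-- `z` is central in `Q` -/
theorem z_comm {a : H} (ha : a ∈ Q) : a * z = z * a := by
  have h3 : a * z * a⁻¹ = 1 ∨ a * z * a⁻¹ = z := by
    refine S.hD _ (Q.mul_mem (Q.mul_mem ha S.z_mem) (Q.inv_mem ha)) fun m => ?_
    have h4 := S.z_F (a⁻¹ • m)
    have h5 := S.hF a ha _ h4
    rw [smul_mul', smul_inv', smul_inv_smul] at h5
    rw [mul_smul, mul_smul, h5]
    exact h4
  rcases h3 with h3 | h3
  · exfalso
    apply S.z_ne
    calc z = a⁻¹ * (a * z * a⁻¹) * a := by group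
      _ = 1 := by rw [h3]; group
  · rw [mul_inv_eq_iff_eq_mul] at h3
    exact h3

theorem z_sq : z * z = 1 := by
  rcases S.square S.z_mem with h | h
  · exact h
  · exact absurd (mul_left_cancel (h.trans (mul_one z).symm)) S.z_ne

/-- `Q` does not centralise `M₁` -/
theorem not_cent (h : ∀ q ∈ Q, ∀ x ∈ M₁, q • x = x) : False := by
  obtain ⟨a, ha, b, hb, hab⟩ := S.nab
  apply hab
  have key : ∀ m : M, (a * b) • m = (b * a) • m := by
    intro m
    have e1 := d_mul a b m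
    have e2 := d_mul b a m
    rw [h a ha _ (S.h1 b hb m)] at e1
    rw [h b hb _ (S.h1 a ha m), S.comm (a • m * m⁻¹)] at e2
    exact mul_right_cancel (e1.trans e2.symm)
  have h3 : (b * a)⁻¹ * (a * b) = 1 := by
    refine S.faith _ fun m => ?_
    rw [mul_smul, key, inv_smul_smul]
  exact (inv_mul_eq_one.1 h3).symm

/-- **The case `|M₁ / F| ≤ 2`** -/
theorem false_two [Finite H] (hM : ∀ x ∈ M₁, ∀ y ∈ M₁, x ∉ F → y ∉ F → x * y ∈ F) (hQ : 8 < Nat.card Q) : False := by
  refine S.not_cent fun q' hq' => ?_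
  by_contra hcon
  push Not at hcon
  obtain ⟨x₀, hx₀, hne⟩ := hcon
  -- commuting `q`
  have hstep : ∀ q ∈ Q, q * q' = q' * q → ∀ m : M, q' • m * m⁻¹ ∈ F → q • m * m⁻¹ ∈ F := by
    intro q hq hc m hm
    by_contra hcc
    set x := q • m * m⁻¹ with hx
    have hx1 : x ∈ M₁ := S.h1 q hq m
    -- `q' x = x`
    have h3 : q' • x = x := by
      have e1 := d_mul q q' m
      have e2 := d_mul q' q m
      rw [hc, e2, S.hF q hq _ hm, S.comm] at e1
      exact mul_left_cancel e1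
    -- `q'` centralises `M₁`
    apply hne
    by_cases hx0F : x₀ ∈ F
    · exact S.hF q' hq' _ hx0F
    · have h4 := S.hF q' hq' _ (hM x₀ hx₀ x hx1 hx0F hcc)
      rw [smul_mul', h3] at h4
      exact mul_right_cancel h4
  -- the centraliser of `q'` is small
  have hsmall : ∀ q ∈ Q, q * q' = q' * q → q = 1 ∨ q = z ∨ q = q'⁻¹ ∨ q = q'⁻¹ * z := by
    intro q hq hc
    by_cases h3 : ∀ m : M, q • m * m⁻¹ ∈ F
    · rcases S.hD q hq h3 with h4 | h4
      · exact Or.inl h4
      · exact Or.inr (Or.inl h4)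
    · push Not at h3
      obtain ⟨m₀, hm₀⟩ := h3
      have hm₀' : q' • m₀ * m₀⁻¹ ∉ F := fun h4 => hm₀ (hstep q hq hc m₀ h4)
      have h5 : q' * q = 1 ∨ q' * q = z := by
        refine S.hD _ (Q.mul_mem hq' hq) fun m => ?_
        rw [d_mul]
        have h6 := S.h2 q' hq' _ (S.h1 q hq m)
        -- `q m / m * q' m / m ∈ F`
        have h7 : (q • m * m⁻¹) * (q' • m * m⁻¹) ∈ F := by
          by_cases h8 : q' • m * m⁻¹ ∈ F
          · exact F.mul_mem (hstep q hq hc m h8) h8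
          · refine hM _ (S.h1 q hq m) _ (S.h1 q' hq' m) ?_ h8
            intro h9
            -- `m m₀` is in the kernel for `q'`
            have h10 : q' • (m * m₀) * (m * m₀)⁻¹ ∈ F := by
              rw [d_mulr q' m m₀ S.comm]
              exact hM _ (S.h1 q' hq' m) _ (S.h1 q' hq' m₀) h8 hm₀'
            have h11 := hstep q hq hc _ h10
            rw [d_mulr q m m₀ S.comm] at h11
            apply hm₀
            have h12 := F.mul_mem (F.inv_mem h9) h11
            rwa [inv_mul_cancel_left] at h12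
        have h13 : q' • (q • m * m⁻¹) * (q' • m * m⁻¹) =
            (q' • (q • m * m⁻¹) * (q • m * m⁻¹)⁻¹) * ((q • m * m⁻¹) * (q' • m * m⁻¹)) := by group
        rw [h13]
        exact F.mul_mem h6 h7
      rcases h5 with h5 | h5
      · exact Or.inr (Or.inr (Or.inl (eq_inv_of_mul_eq_one_right h5)))
      · refine Or.inr (Or.inr (Or.inr ?_))
        rw [← h5]; group
  -- `|Q| ≤ 8`
  set C : Set H := {1, z, q'⁻¹, q'⁻¹ * z} with hC
  have hCc : C.ncard ≤ 4 := by
    have e1 := Set.ncard_insert_le (1 : H) {z, q'⁻¹, q'⁻¹ * z}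
    have e2 := Set.ncard_insert_le z {q'⁻¹, q'⁻¹ * z}
    have e3 := Set.ncard_insert_le q'⁻¹ {q'⁻¹ * z}
    rw [Set.ncard_singleton] at e3
    rw [hC]
    omega
  have hCm : ∀ q ∈ Q, q * q' = q' * q → q ∈ C := by
    intro q hq hc
    rcases hsmall q hq hc with h | h | h | h <;> simp [hC, h]
  by_cases hall : ∀ q ∈ Q, q * q' = q' * q
  · have h3 : (Q : Set H) ⊆ C := fun q hq => hCm q hq (hall q hq)
    have h4 := Set.ncard_le_ncard h3 (Set.toFinite _)
    have h5 : (Q : Set H).ncard = Nat.card Q := rfl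
    omega
  · push Not at hall
    obtain ⟨x₁, hx₁, hx₁'⟩ := hall
    have h3 : (Q : Set H) ⊆ C ∪ (fun y => x₁ * y) '' C := by
      intro q hq
      by_cases hc : q * q' = q' * q
      · exact Or.inl (hCm q hq hc)
      · right
        refine ⟨x₁⁻¹ * q, hCm _ (Q.mul_mem (Q.inv_mem hx₁) hq) ?_, by group⟩
        have e : ∀ y ∈ Q, y * q' ≠ q' * y → y * q' = z * (q' * y) := by
          intro y hy hne
          rcases S.commutator hy hq' with h | h
          · exfalso
            apply hne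
            calc y * q' = (y * q' * y⁻¹ * q'⁻¹) * (q' * y) := by group
              _ = q' * y := by rw [h, one_mul]
          · calc y * q' = (y * q' * y⁻¹ * q'⁻¹) * (q' * y) := by group
              _ = z * (q' * y) := by rw [h]
        have e1 := e q hq hc
        have e2 := e x₁ hx₁ hx₁'
        -- `x₁⁻¹ q q' = x₁⁻¹ z q' q = z x₁⁻¹ q' q`, `q' x₁⁻¹ = z x₁⁻¹ q'`
        have hz := S.z_comm (Q.inv_mem hx₁)
        have e3 : q' * x₁⁻¹ = x₁⁻¹ * z * q' := by
          calc q' * x₁⁻¹ = x₁⁻¹ * (x₁ * q') * x₁⁻¹ := by group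
            _ = x₁⁻¹ * z * q' := by rw [e2]; group
        calc x₁⁻¹ * q * q' = x₁⁻¹ * (q * q') := by group
          _ = x₁⁻¹ * z * q' * q := by rw [e1]; group
          _ = q' * x₁⁻¹ * q := by rw [e3]
          _ = q' * (x₁⁻¹ * q) := by group
    have h4 := Set.ncard_le_ncard h3 (Set.toFinite _)
    have h5 : (Q : Set H).ncard = Nat.card Q := rfl
    have h6 := Set.ncard_union_le C ((fun y => x₁ * y) '' C)
    have h7 := Set.ncard_image_le (f := fun y => x₁ * y) (Set.toFinite C)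
    omega


/-- `h` acts as a transvection with centre `β` (or trivially) -/
def Rk1 (h : H) (β : M) : Prop := ∀ m : M, h • m = m ∨ h • m = m * β

omit S in
theorem Rk1.conj {h : H} {β : M} (hh : Rk1 h β) (u : H) : Rk1 (u * h * u⁻¹) (u • β) := by
  intro m
  rcases hh (u⁻¹ • m) with h1 | h1
  · left
    rw [mul_smul, mul_smul, h1, smul_inv_smul]
  · right
    rw [mul_smul, mul_smul, h1, smul_mul', smul_inv_smul]

/-- **The case `|M : M₁| = 2`: `z` is a transvection** -/
theorem false_tv (hidx : ∀ x y : M, x ∉ M₁ → y ∉ M₁ → x * y⁻¹ ∈ M₁) (hne : ∃ m : M, m ∉ M₁)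
    (hcen : ∀ r ∈ Q, (∀ x ∈ Q, r * x = x * r) → r = 1 ∨ r = z) {k : H}
    (htz : (k * z * k⁻¹) * z = z * (k * z * k⁻¹)) (htQ : ∀ q ∈ Q, (k * z * k⁻¹) * q * (k * z * k⁻¹)⁻¹ ∈ Q) {q : H}
    (hq : q ∈ Q) (hq1 : (k * z * k⁻¹) * q * (k * z * k⁻¹)⁻¹ * q⁻¹ ≠ 1)
    (hqz : (k * z * k⁻¹) * q * (k * z * k⁻¹)⁻¹ * q⁻¹ ≠ z) : False := by
  obtain ⟨m₁, hm₁⟩ := hne
  obtain ⟨v, hv⟩ : ∃ v, v = z • m₁ * m₁⁻¹ := ⟨_, rfl⟩
  have hvF : v ∈ F := by rw [hv]; exact S.z_F m₁
  -- the action of `z`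
  have hzm : ∀ m : M, m ∉ M₁ → z • m = m * v := by
    intro m hm
    have h3 := S.z_fix (hidx m m₁ hm hm₁)
    have h4 : m = (m * m₁⁻¹) * m₁ := by group
    conv_lhs => rw [h4, smul_mul', h3]
    have h5 : z • m₁ = v * m₁ := by rw [hv]; group
    rw [h5, S.comm v m₁]
    group
  have hv1 : v ≠ 1 := by
    intro h
    apply S.z_ne
    refine S.faith _ fun m => ?_
    by_cases hm : m ∈ M₁
    · exact S.z_fix hm
    · rw [hzm m hm, h, mul_one]
  have hfixM : ∀ m : M, z • m = m → m ∈ M₁ := by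
    intro m h
    by_contra hm
    rw [hzm m hm] at h
    exact hv1 (mul_left_cancel (h.trans (mul_one m).symm))
  have hzr : Rk1 z v := fun m => by
    by_cases hm : m ∈ M₁
    · exact Or.inl (S.z_fix hm)
    · exact Or.inr (hzm m hm)
  have hzv : z • v = v := S.hF z S.z_mem v hvF
  obtain ⟨t, ht⟩ : ∃ t, t = k * z * k⁻¹ := ⟨_, rfl⟩
  obtain ⟨α, hα⟩ : ∃ α, α = k • v := ⟨_, rfl⟩
  have htr : Rk1 t α := by rw [ht, hα]; exact hzr.conj k
  rw [← ht] at htz htQ hq1 hqz
  have htα : t • α = α := by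
    rw [ht, hα, mul_smul, mul_smul, inv_smul_smul, hzv]
  have htt : t * t = 1 := by
    rw [ht]
    calc k * z * k⁻¹ * (k * z * k⁻¹) = k * (z * z) * k⁻¹ := by group
      _ = 1 := by rw [S.z_sq]; group
  have hti : t⁻¹ = t := inv_eq_of_mul_eq_one_right htt
  have ht1 : t ≠ 1 := by
    intro h
    apply S.z_ne
    calc z = k⁻¹ * (k * z * k⁻¹) * k := by group
      _ = 1 := by rw [← ht, h]; group
  have hα1 : α ≠ 1 := by
    intro h
    apply hv1
    rw [h] at hα
    calc v = k⁻¹ • (k • v) := (inv_smul_smul k v).symm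
      _ = 1 := by rw [← hα, smul_one]
  have hαα : α * α = 1 := S.sq α
  have hαi : α⁻¹ = α := inv_eq_of_mul_eq_one_right hαα
  -- `z α = α`, `α ∈ M₁`
  have hzα : z • α = α := by
    obtain ⟨m, hm⟩ : ∃ m : M, t • m ≠ m := by
      by_contra hc
      push Not at hc
      exact ht1 (S.faith _ hc)
    have h3 := (htr m).resolve_left hm
    have h4 : z • (t • m) = t • (z • m) := by rw [← mul_smul, ← mul_smul, htz]
    rw [h3, smul_mul'] at h4
    rcases htr (z • m) with h5 | h5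
    · rw [h5] at h4
      have h6 : z • α = 1 := mul_left_cancel (h4.trans (mul_one _).symm)
      exfalso
      apply hα1
      calc α = z⁻¹ • (z • α) := (inv_smul_smul z α).symm
        _ = 1 := by rw [h6, smul_one]
    · rw [h5] at h4
      exact mul_left_cancel h4
  have hαM : α ∈ M₁ := hfixM α hzα
  have main : ∀ q ∈ Q, t * q * t⁻¹ * q⁻¹ ≠ 1 → t * q * t⁻¹ * q⁻¹ ≠ z → α ∉ F ∧
      t * (q * t * q⁻¹) = (q * t * q⁻¹) * t ∧ ∀ m : M, (t • m = m ↔ (q * t * q⁻¹) • m = m) ↔ m ∈ M₁ := by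
    clear hq hq1 hqz q
    intro q hq hq1 hqz
    -- the element `r`
    obtain ⟨r, hr⟩ : ∃ r, r = t * (q * t * q⁻¹) := ⟨_, rfl⟩
    have hre : t * q * t⁻¹ * q⁻¹ = r := by rw [hr, hti]; group
    rw [hre] at hq1 hqz
    have hrQ : r ∈ Q := by
      rw [← hre]
      exact Q.mul_mem (htQ q hq) (Q.inv_mem hq)
    have hrn : ∀ m : M, m ∉ M₁ → r • m * m⁻¹ ∉ F := by
      intro m hm hc
      have hall : ∀ m' : M, r • m' * m'⁻¹ ∈ F := by
        intro m'
        by_cases hm' : m' ∈ M₁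
        · exact S.h2 r hrQ m' hm'
        · have h3 : m' = (m' * m⁻¹) * m := by group
          rw [h3, d_mulr r _ _ S.comm]
          exact F.mul_mem (S.h2 r hrQ _ (hidx m' m hm' hm)) hc
      rcases S.hD r hrQ hall with h | h
      · exact hq1 h
      · exact hqz h
    have hrM : ∀ x ∈ M₁, r • x * x⁻¹ ∈ F := fun x hx => S.h2 r hrQ x hx
    obtain ⟨α', hα'⟩ : ∃ α', α' = q • α := ⟨_, rfl⟩
    obtain ⟨t', ht'⟩ : ∃ t', t' = q * t * q⁻¹ := ⟨_, rfl⟩
    rw [← ht'] at hr
    have htr' : Rk1 t' α' := by rw [ht', hα']; exact htr.conj q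
    have hαF' : α' * α⁻¹ ∈ F := by rw [hα']; exact S.h2 q hq α hαM
    have hαM' : α' ∈ M₁ := by rw [hα']; exact S.stab hq hαM
    have htα' : t' • α' = α' := by
      rw [ht', hα', mul_smul, mul_smul, inv_smul_smul, htα]
    have hαα' : α' * α' = 1 := S.sq α'
    have hαi' : α'⁻¹ = α' := inv_eq_of_mul_eq_one_right hαα'
    have hiff : α ∈ F ↔ α' ∈ F := by
      constructor
      · intro h
        have h3 := F.mul_mem hαF' h
        rwa [inv_mul_cancel_right] at h3
      · intro h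
        have h3 := F.mul_mem (F.inv_mem hαF') h
        have h4 : (α' * α⁻¹)⁻¹ * α' = α := by group
        rwa [h4] at h3
    -- `α ∉ F`
    have hαF : α ∉ F := by
      intro h
      have h' := hiff.1 h
      apply hrn m₁ hm₁
      rw [hr, d_mul]
      have h3 : ∀ m : M, t • m * m⁻¹ ∈ F := by
        intro m
        rcases htr m with h4 | h4
        · rw [h4, mul_inv_cancel]; exact F.one_mem
        · rw [h4, S.comm m α, mul_inv_cancel_right]; exact h
      have h5 : t' • m₁ * m₁⁻¹ ∈ F := by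
        rcases htr' m₁ with h4 | h4
        · rw [h4, mul_inv_cancel]; exact F.one_mem
        · rw [h4, S.comm m₁ α', mul_inv_cancel_right]; exact h'
      refine F.mul_mem ?_ (h3 m₁)
      have h6 := F.mul_mem (h3 (t' • m₁ * m₁⁻¹)) h5
      rwa [inv_mul_cancel_right] at h6
    have hαF2 : α' ∉ F := fun h => hαF (hiff.2 h)
    -- `t`, `t'` commute
    have h_tα' : t • α' = α' := by
      rcases htr α' with h | h
      · exact h
      · exfalso
        have h3 := hrM α' hαM'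
        rw [hr, mul_smul, htα', h, S.comm α' α, mul_inv_cancel_right] at h3
        exact hαF h3
    have h_t'α : t' • α = α := by
      rcases htr' α with h | h
      · exact h
      · exfalso
        have h3 := hrM α hαM
        rw [hr, mul_smul, h, smul_mul', htα, h_tα', S.comm α α', mul_inv_cancel_right] at h3
        exact hαF2 h3
    have hcomm : t * t' = t' * t := by
      have h3 : (t' * t)⁻¹ * (t * t') = 1 := by
        refine S.faith _ fun m => ?_
        rw [mul_smul, inv_smul_eq_iff, mul_smul, mul_smul]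
        rcases htr m with h | h <;> rcases htr' m with h' | h'
        · rw [h', h, h']
        · rw [h', h, smul_mul', h_tα', h, h']
        · rw [h', h, smul_mul', h_t'α, h']
        · rw [h', h, smul_mul', smul_mul', h_tα', h_t'α, h, h', mul_assoc, mul_assoc, S.comm α α']
      exact (inv_mul_eq_one.1 h3).symm
    -- the fixed points of `t` and of `u t u⁻¹`
    rw [← ht']
    refine ⟨hαF, hcomm, ?_⟩
    intro m
    have key : r • m * m⁻¹ ∈ F ↔ (t • m = m ↔ t' • m = m) := by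
      rw [hr, mul_smul]
      rcases htr m with h | h <;> rcases htr' m with h' | h'
      · rw [h', h, mul_inv_cancel]
        simp [F.one_mem]
      · rw [h', smul_mul', h_tα', h, S.comm m α', mul_inv_cancel_right]
        refine ⟨fun h3 => absurd h3 hαF2, fun h3 => ?_⟩
        have h4 := h3.1 rfl
        exfalso
        apply hαF2
        have h5 : α' = 1 := mul_right_cancel (h4.trans (one_mul m).symm)
        rw [h5]; exact F.one_mem
      · rw [h', h, S.comm m α, mul_inv_cancel_right]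
        refine ⟨fun h3 => absurd h3 hαF, fun h3 => ?_⟩
        have h4 := h3.2 rfl
        exfalso
        have h5 : α = 1 := mul_right_cancel (h4.trans (one_mul m).symm)
        exact hα1 h5
      · rw [h', smul_mul', h_tα', h]
        have h3 : m * α * α' * m⁻¹ = α' * α⁻¹ := by
          rw [hαi, mul_assoc m, S.comm m, mul_inv_cancel_right, S.comm]
        rw [h3]
        refine ⟨fun _ => ⟨fun h4 => ?_, fun h4 => ?_⟩, fun _ => hαF'⟩
        · exact absurd (mul_left_cancel (h4.trans (mul_one m).symm)) hα1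
        · have h5 : α' = 1 := mul_left_cancel (h4.trans (mul_one m).symm)
          exact absurd (by rw [h5]; exact F.one_mem) hαF2
    rw [← key]
    exact ⟨fun h3 => by by_contra hm; exact hrn m hm h3, fun hm => hrM m hm⟩
  obtain ⟨hαF, hcomm, hfp⟩ := main q hq hq1 hqz
  have hconjne : ∀ u : H, u ∈ Q → t * u * t⁻¹ * u⁻¹ = z → False := by
    intro u hu huz
    have hut : u * t * u⁻¹ = t * z := by
      have e1 : t * u * t⁻¹ * u⁻¹ = t * (u * t * u⁻¹) := by rw [hti]; group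
      rw [e1] at huz
      calc u * t * u⁻¹ = t⁻¹ * (t * (u * t * u⁻¹)) := by group
        _ = t * z := by rw [huz, hti]
    have hur : Rk1 (t * z) (u • α) := by rw [← hut]; exact htr.conj u
    -- `x ∈ M₁`, `t x ≠ x`
    obtain ⟨x, hx, hxt⟩ : ∃ x ∈ M₁, t • x ≠ x := by
      by_contra hc
      push Not at hc
      have h3 : ∀ m : M, m ∉ M₁ → t • m ≠ m := by
        intro m hm h4
        apply ht1
        refine S.faith _ fun m' => ?_
        by_cases hm' : m' ∈ M₁
        · exact hc m' hm'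
        · have h5 : m' = (m' * m⁻¹) * m := by group
          rw [h5, smul_mul', hc _ (hidx m' m hm' hm), h4]
      have h4 : (q * t * q⁻¹) • m₁ ≠ m₁ := by
        intro h5
        rw [mul_smul, mul_smul, ← eq_inv_smul_iff] at h5
        refine h3 (q⁻¹ • m₁) (fun h6 => hm₁ ?_) h5
        have h7 := S.stab hq h6
        rwa [smul_inv_smul] at h7
      exact hm₁ ((hfp m₁).1 ⟨fun h5 => absurd h5 (h3 m₁ hm₁), fun h5 => absurd h5 h4⟩)
    -- `m ∉ M₁`, `t m = m`
    obtain ⟨m, hm, hmt⟩ : ∃ m : M, m ∉ M₁ ∧ t • m = m := by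
      by_cases h3 : t • m₁ = m₁
      · exact ⟨m₁, hm₁, h3⟩
      · refine ⟨m₁ * x, fun h4 => hm₁ ?_, ?_⟩
        · have h5 := M₁.mul_mem h4 (M₁.inv_mem hx)
          rwa [mul_inv_cancel_right] at h5
        · rw [smul_mul', (htr m₁).resolve_left h3, (htr x).resolve_left hxt, mul_assoc, ← mul_assoc α, S.comm α x,
            mul_assoc x, hαα, mul_one]
    have e1 : (t * z) • x = x * α := by rw [mul_smul, S.z_fix hx, (htr x).resolve_left hxt]
    have e2 : (t * z) • m = m * v := by rw [htz, mul_smul, hmt, hzm m hm]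
    have e3 : u • α = α := by
      rcases hur x with h | h
      · exact absurd (mul_left_cancel (e1.symm.trans (h.trans (mul_one x).symm))) hα1
      · exact (mul_left_cancel (e1.symm.trans h)).symm
    rw [e3] at hur
    rcases hur m with h | h
    · exact hv1 (mul_left_cancel (e2.symm.trans (h.trans (mul_one m).symm)))
    · have h4 : v = α := mul_left_cancel (e2.symm.trans h)
      exact hαF (h4 ▸ hvF)
  -- elements of `Q` with `[t, u] ∈ {1, z}` commute with `t`
  have hct : ∀ u ∈ Q, (t * u * t⁻¹ * u⁻¹ = 1 ∨ t * u * t⁻¹ * u⁻¹ = z) → t * u = u * t := by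
    intro u hu h
    rcases h with h | h
    · calc t * u = (t * u * t⁻¹ * u⁻¹) * (u * t) := by group
        _ = u * t := by rw [h, one_mul]
    · exact absurd h (fun h => hconjne u hu h)
  -- two elements not commuting with `t` differ by an element commuting with `t`
  have hdiff : ∀ x ∈ Q, t * x ≠ x * t → t * (q⁻¹ * x) = (q⁻¹ * x) * t := by
    intro x hx hne
    have hu : q⁻¹ * x ∈ Q := Q.mul_mem (Q.inv_mem hq) hx
    apply hct _ hu
    by_contra hc
    push Not at hc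
    have hx' : t * x * t⁻¹ * x⁻¹ ≠ 1 ∧ t * x * t⁻¹ * x⁻¹ ≠ z :=
      ⟨fun h => hne (hct x hx (Or.inl h)), fun h => hne (hct x hx (Or.inr h))⟩
    obtain ⟨-, -, f1⟩ := main x hx hx'.1 hx'.2
    obtain ⟨-, -, f2⟩ := main _ hu hc.1 hc.2
    -- `m ∉ M₁`
    have h3 : (t • m₁ = m₁ ↔ ((q⁻¹ * x) * t * (q⁻¹ * x)⁻¹) • m₁ = m₁) := by
      have e1 : ((q⁻¹ * x) * t * (q⁻¹ * x)⁻¹) • m₁ = m₁ ↔ (x * t * x⁻¹) • (q • m₁) = q • m₁ := by
        have e : (q⁻¹ * x) * t * (q⁻¹ * x)⁻¹ = q⁻¹ * (x * t * x⁻¹) * q := by group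
        rw [e, mul_smul, mul_smul, inv_smul_eq_iff]
      have e2 : (q * t * q⁻¹) • (q • m₁) = q • m₁ ↔ t • m₁ = m₁ := by
        rw [mul_smul, mul_smul, inv_smul_smul, smul_left_cancel_iff]
      have hqm : q • m₁ ∉ M₁ := fun h => hm₁ (by
        have := S.stab (Q.inv_mem hq) h
        rwa [inv_smul_smul] at this)
      have g1 := not_congr (f1 (q • m₁))
      have g2 := not_congr (hfp (q • m₁))
      rw [e1, ← e2]
      tauto
    exact hm₁ ((f2 m₁).1 h3)
  -- `r` is central in `Q`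
  obtain ⟨r, hr⟩ : ∃ r, r = t * (q * t * q⁻¹) := ⟨_, rfl⟩
  have hre : t * q * t⁻¹ * q⁻¹ = r := by rw [hr, hti]; group
  rw [hre] at hq1 hqz
  have hrQ : r ∈ Q := by
    rw [← hre]
    exact Q.mul_mem (htQ q hq) (Q.inv_mem hq)
  have hrc : ∀ u ∈ Q, t * u = u * t → r * u = u * r := by
    intro u hu hut
    have h3 : u * (q * t * q⁻¹) = (q * t * q⁻¹) * u := by
      have hc := S.commutator (Q.inv_mem hq) hu
      have hcom : ∀ c : H, (c = 1 ∨ c = z) → c * t = t * c ∧ ∀ y ∈ Q, c * y = y * c := by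
        rintro c (rfl | rfl)
        · exact ⟨by rw [one_mul, mul_one], fun y _ => by rw [one_mul, mul_one]⟩
        · exact ⟨htz.symm, fun y hy => (S.z_comm hy).symm⟩
      obtain ⟨c1, c2⟩ := hcom _ hc
      -- `q⁻¹ u = c u q⁻¹`
      set c := q⁻¹ * u * q⁻¹⁻¹ * u⁻¹ with hcd
      have e1 : q⁻¹ * u = c * (u * q⁻¹) := by rw [hcd]; group
      have e2 : u * q⁻¹ = c⁻¹ * (q⁻¹ * u) := by rw [e1]; group
      have e3 : u * q = q * (c * u) := by
        have h5 : c * u * q⁻¹ = q⁻¹ * u := by rw [e1, mul_assoc]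
        calc u * q = q * (q⁻¹ * u) * q := by group
          _ = q * (c * u * q⁻¹) * q := by rw [h5]
          _ = _ := by group
      calc u * (q * t * q⁻¹) = (u * q) * t * q⁻¹ := by group
        _ = q * (c * u) * t * q⁻¹ := by rw [e3]
        _ = q * c * (u * t) * q⁻¹ := by group
        _ = q * (c * t) * (u * q⁻¹) := by rw [← hut]; group
        _ = q * (t * c) * (c⁻¹ * (q⁻¹ * u)) := by rw [c1, e2]
        _ = (q * t * q⁻¹) * u := by group
    rw [hr]
    calc t * (q * t * q⁻¹) * u = t * (u * (q * t * q⁻¹)) := by rw [h3]; group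
      _ = (t * u) * (q * t * q⁻¹) := by group
      _ = u * (t * (q * t * q⁻¹)) := by rw [hut]; group
  have hqq : t * (q * q) = (q * q) * t := by
    rcases S.square hq with h | h
    · rw [h, one_mul, mul_one]
    · rw [h, htz]
  have hrq : r * q = q * r := by
    have e1 : q * (q * t * q⁻¹) * q⁻¹ = t := by
      calc q * (q * t * q⁻¹) * q⁻¹ = ((q * q) * t) * (q * q)⁻¹ := by group
        _ = t := by rw [← hqq]; group
    have e2 : q * r * q⁻¹ = r := by
      calc q * r * q⁻¹ = (q * t * q⁻¹) * (q * (q * t * q⁻¹) * q⁻¹) := by rw [hr]; group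
        _ = (q * t * q⁻¹) * t := by rw [e1]
        _ = r := by rw [← hcomm, hr]
    calc r * q = (q * r * q⁻¹) * q := by rw [e2]
      _ = q * r := by group
  have hall : ∀ x ∈ Q, r * x = x * r := by
    intro x hx
    by_cases hxt : t * x = x * t
    · exact hrc x hx hxt
    · have h3 := hrc _ (Q.mul_mem (Q.inv_mem hq) hx) (hdiff x hx hxt)
      calc r * x = (r * q) * (q⁻¹ * x) := by group
        _ = q * (r * (q⁻¹ * x)) := by rw [hrq]; group
        _ = x * r := by rw [h3]; group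
  rcases hcen r hrQ hall with h | h
  · exact hq1 h
  · exact hqz h

end Sit

end Cfsg.Agent.Omega.ML.ExEx.Kill
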