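import Cfsg.Agent.Omega.ML.ExEx.DatEx
import Cfsg.Agent.Omega.ML.Ex.RkX

/-!
# K-list "exact + low": the rows of groups with a sheet of type (E) and `TrivC` (helper96)

* `mem_of_triv` : in a sheet of type (E): `t ∈ P` trivial on `R / ⟨z⟩` is in `R`;
* `false_of_sub` : the sheet in the simple group `K` excludes an exact `A ≤ R^g` with `|A| > 2`;
* **`deadX_of_sheet`** : the hypotheses of `ExRow.dead_of_sheet` with `SheetE` (`ytrick`) and `2 ≤ n`.
-/

set_option autoImplicit false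

namespace Cfsg.Agent.Omega.ML.ExEx.SheetRow

open Subgroup Cfsg Cfsg.Agent.ClassTwoFusion.Quad Cfsg.Agent.Omega.NOThree.NoOver Cfsg.Agent.Omega.ML.CD
open Cfsg.Agent.ZN (o2)
open Cfsg.Agent.Omega.ML.ExRec Cfsg.Agent.Omega.ML.ExRow Cfsg.Agent.Omega.ML.Ex
open Cfsg.Agent.OddHalf.D8.Sheet Cfsg.Agent.OddHalf.D8.JTwo.Sheet

universe u v

section sheet

variable {K : Type*} [Group K] {z : K} {P R : Subgroup K}

/-- elements of `P` which are trivial on `R / ⟨z⟩` lie in `R` -/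
theorem mem_of_triv (h : SheetX z P R) {t : K} (ht : t ∈ P)
    (hR : ∀ r ∈ R, t * r * t⁻¹ * r⁻¹ = 1 ∨ t * r * t⁻¹ * r⁻¹ = z) : t ∈ R := by
  have hzz := h.zz
  have hmul : ∀ a b : K, (a = 1 ∨ a = z) → (b = 1 ∨ b = z) → (a * b = 1 ∨ a * b = z) := by
    rintro a b (rfl | rfl) (rfl | rfl)
    · exact Or.inl (one_mul _)
    · exact Or.inr (one_mul _)
    · exact Or.inr (mul_one _)
    · exact Or.inl hzz
  have hinv : ∀ a : K, (a = 1 ∨ a = z) → (a⁻¹ = 1 ∨ a⁻¹ = z) := by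
    rintro a (rfl | rfl)
    · exact Or.inl inv_one
    · exact Or.inr (inv_eq_of_mul_eq_one_right hzz)
  have hcm : ∀ a : K, (a = 1 ∨ a = z) → ∀ x ∈ P, x * a = a * x := by
    rintro a (rfl | rfl) x hx
    · rw [mul_one, one_mul]
    · exact h.cen x hx
  let B : Subgroup K :=
    { carrier := {x | x ∈ P ∧ ∀ r ∈ R, x * r * x⁻¹ * r⁻¹ = 1 ∨ x * r * x⁻¹ * r⁻¹ = z}
      one_mem' := ⟨P.one_mem, fun r _ => Or.inl (by group)⟩
      mul_mem' := fun {x y} hx hy => ⟨P.mul_mem hx.1 hy.1, fun r hr => by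
        have h1 := hy.2 r hr
        have h2 := hx.2 r hr
        have h3 := hcm _ h1 x hx.1
        have h4 : x * y * r * (x * y)⁻¹ * r⁻¹ = (y * r * y⁻¹ * r⁻¹) * (x * r * x⁻¹ * r⁻¹) := by
          calc x * y * r * (x * y)⁻¹ * r⁻¹ = (x * (y * r * y⁻¹ * r⁻¹)) * r * x⁻¹ * r⁻¹ := by group
            _ = _ := by rw [h3]; group
        rw [h4]
        exact hmul _ _ h1 h2⟩
      inv_mem' := fun {x} hx => ⟨P.inv_mem hx.1, fun r hr => by
        have hxr : x⁻¹ * r * x ∈ R := by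
          have := h.Rn _ (P.inv_mem hx.1) r hr
          rwa [inv_inv] at this
        have h1 := hinv _ (hx.2 _ hxr)
        have h2 : (x * (x⁻¹ * r * x) * x⁻¹ * (x⁻¹ * r * x)⁻¹)⁻¹ = x⁻¹ * r * x⁻¹⁻¹ * r⁻¹ := by group
        rwa [h2] at h1⟩ }
  have hB : B ≤ R := by
    apply h.Rmax
    · exact fun x hx => hx.1
    · intro x
      -- `x ^ 2` centralises `R`
      have h1 : (x : K) * x ∈ R := by
        apply h.cR _ (P.mul_mem x.2.1 x.2.1)
        intro r hr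
        have h2 := x.2.2 r hr
        have h3 := hcm _ h2 x x.2.1
        have h4 : (x : K) * x * r * ((x : K) * x)⁻¹ = ((x : K) * r * (x : K)⁻¹ * r⁻¹) * ((x : K) * r * (x : K)⁻¹ * r⁻¹) * r := by
          calc (x : K) * x * r * ((x : K) * x)⁻¹ = ((x : K) * ((x : K) * r * (x : K)⁻¹ * r⁻¹)) * r * (x : K)⁻¹ := by group
            _ = _ := by rw [h3]; group
        have h5 : ((x : K) * r * (x : K)⁻¹ * r⁻¹) * ((x : K) * r * (x : K)⁻¹ * r⁻¹) = 1 := by
          rcases h2 with h2 | h2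
          · rw [h2, one_mul]
          · rw [h2, hzz]
        rw [h5, one_mul, mul_inv_eq_iff_eq_mul] at h4
        exact h4
      obtain ⟨k, hk⟩ := h.R2 ⟨_, h1⟩
      refine ⟨k + 1, Subtype.ext ?_⟩
      have h2 : ((x : K) * x) ^ 2 ^ k = 1 := congrArg Subtype.val hk
      change (x : K) ^ 2 ^ (k + 1) = 1
      rw [pow_succ, mul_comm, pow_mul, pow_two]
      exact h2
    · intro p hp x hx
      refine ⟨P.mul_mem (P.mul_mem hp hx.1) (P.inv_mem hp), fun r hr => ?_⟩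
      have hpr : p⁻¹ * r * p ∈ R := by
        have := h.Rn _ (P.inv_mem hp) r hr
        rwa [inv_inv] at this
      have h1 := hx.2 _ hpr
      have h2 := hcm _ h1 p hp
      have h3 : p * x * p⁻¹ * r * (p * x * p⁻¹)⁻¹ * r⁻¹ = x * (p⁻¹ * r * p) * x⁻¹ * (p⁻¹ * r * p)⁻¹ := by
        calc p * x * p⁻¹ * r * (p * x * p⁻¹)⁻¹ * r⁻¹ = p * (x * (p⁻¹ * r * p) * x⁻¹ * (p⁻¹ * r * p)⁻¹) * p⁻¹ := by group
          _ = _ := by rw [h2, mul_inv_cancel_right]
      rw [h3]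
      exact h1
  exact hB ⟨ht, hR⟩

/-- the centre of `R` -/
theorem eq_z_of_central (h : SheetX z P R) {c : K} (hc : c ∈ R) (hc1 : c ≠ 1) (hcc : ∀ r ∈ R, c * r = r * c) : c = z := by
  let B : Subgroup K := R ⊓ centralizer (R : Set K)
  have hBinv : ∀ x ∈ P, ∀ b ∈ B, x * b * x⁻¹ ∈ B := by
    intro x hx b hb
    refine ⟨h.Rn x hx b hb.1, mem_centralizer_iff.2 fun y hy => ?_⟩
    have h3 := h.Rn x⁻¹ (P.inv_mem hx) y hy
    have h4 := mem_centralizer_iff.1 hb.2 _ h3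
    calc y * (x * b * x⁻¹) = x * ((x⁻¹ * y * x⁻¹⁻¹) * b) * x⁻¹ := by group
      _ = x * (b * (x⁻¹ * y * x⁻¹⁻¹)) * x⁻¹ := by rw [h4]
      _ = x * b * x⁻¹ * y := by group
  have hcB : c ∈ B := ⟨hc, mem_centralizer_iff.2 fun y hy => (hcc y hy).symm⟩
  rcases h.Rmin B inf_le_left hBinv with h1 | h1
  · exact (h1 c hcB).resolve_left hc1
  · exfalso
    obtain ⟨a, ha, b, hb, hab⟩ := h.Rna
    have h4 : b ∈ B := by rw [h1]; exact hb
    exact hab (mem_centralizer_iff.1 h4.2 a ha)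

/-- the conjugate of `z` needed for THEOREM EX -/
theorem yt_of (h : SheetE z P R) : ∀ c ∈ R, c ≠ 1 → (∀ q ∈ R, c * q = q * c) →
    ∃ k : K, (k * c * k⁻¹) * c = c * (k * c * k⁻¹) ∧ (∀ q ∈ R, (k * c * k⁻¹) * q * (k * c * k⁻¹)⁻¹ ∈ R) ∧
      ∃ q ∈ R, (k * c * k⁻¹) * q * (k * c * k⁻¹)⁻¹ * q⁻¹ ≠ 1 ∧ (k * c * k⁻¹) * q * (k * c * k⁻¹)⁻¹ * q⁻¹ ≠ c := by
  intro c hc hc1 hcc
  have hX := of_sheetE h
  obtain rfl := eq_z_of_central hX hc hc1 hcc
  obtain ⟨k, hk1, hk2, -⟩ := h.ytrick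
  refine ⟨k, h.cen _ hk1, fun q hq => h.Rn _ hk1 q hq, ?_⟩
  by_contra hcon
  push Not at hcon
  exact hk2 (mem_of_triv hX hk1 fun r hr => or_iff_not_imp_left.2 fun h3 => hcon r hr h3)

end sheet

section

variable {H : Type u} [Group H] [Finite H] {M : Type v} [Group M] [Finite M] [MulDistribMulAction H M]
  {K A : Subgroup H}

/-- the sheet in `K` excludes an exact `A ≤ R^g` with `|A| > 2` -/
theorem false_of_sub (sq : ∀ m : M, m * m = 1) (faith : ∀ h : H, (∀ m : M, h • m = m) → h = 1)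
    (hex : (cv M (A : Set H)).index ≤ Nat.card A) (h2 : 2 < Nat.card A) {z : K} {P R : Subgroup K} {n : ℕ} (hn : 2 ≤ n)
    (hz : SheetE z P R) (hcard : Nat.card R = 2 ^ (2 * n + 1)) (ht : TrivC.{u, v, u} (centralizer ({z} : Set K)) P n)
    {g : H} (hg : ∀ a ∈ A, g⁻¹ * a * g ∈ R.map K.subtype) : False := by
  have r : Rec.{u, v, u} (centralizer ({z} : Set K)) P R n := Rec.of_sheet (of_sheetE hz) hcard ht
  have hR2 : IsPGroup 2 R := hz.R2
  have hker : (MonoidHom.id K).ker = ⊥ := by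
    ext x
    rfl
  have hkc : (MonoidHom.id K).ker ≤ center K := by rw [hker]; exact bot_le
  have hD := dat_of_rec (π := MonoidHom.id K) Function.surjective_id hkc (by rw [hker, card_bot]; exact odd_one) r
  have hQ : ∀ x : K, x ∈ o2 (R.comap (MonoidHom.id K)) ↔ x ∈ R := by
    intro x
    rw [mem_lift2 hkc hR2]
    refine ⟨fun h => h.1, fun h => ⟨h, ?_⟩⟩
    obtain ⟨k, hk⟩ := hR2 ⟨x, h⟩
    exact ⟨k, congrArg Subtype.val hk⟩
  obtain ⟨B, hB⟩ : ∃ B, B = cj g⁻¹ A := ⟨_, rfl⟩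
  have hBR : B ≤ R.map K.subtype := by
    rw [hB]
    rintro _ ⟨a, ha, rfl⟩
    have h1 := hg a ha
    change g⁻¹ * a * g⁻¹⁻¹ ∈ _
    rwa [inv_inv]
  have hBK : B ≤ K := hBR.trans (map_subtype_le _)
  have hBe : (B.comap K.subtype).map K.subtype = B := by
    rw [map_comap_eq, range_subtype, inf_eq_right.2 hBK]
  have hcardB : Nat.card (B.comap K.subtype) = Nat.card A := by
    rw [← card_map_of_injective (K := B.comap K.subtype) K.subtype_injective, hBe, hB, cj,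
      card_map_of_injective (MulAut.conj g⁻¹).injective]
  have hcvB : cv M ((B.comap K.subtype : Subgroup K) : Set K) = cv M (B : Set H) := by
    ext m
    rw [mem_cv, mem_cv]
    constructor
    · intro h b hb
      exact h ⟨b, hBK hb⟩ hb
    · intro h b hb
      exact h b hb
  have hge : Nat.card M ≤ fab M 1 1 (B.comap K.subtype : Subgroup K) := by
    have h1 : (cv M (B : Set H)).index ≤ Nat.card A := by
      rw [hB, cj, QData.index_cv_map_conj]
      exact hex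
    rw [fab_one, fo, hcardB, hcvB, ← card_mul_index (cv M (B : Set H)), mul_comm]
    exact Nat.mul_le_mul_right _ h1
  refine hD.false_ex (A := B.comap K.subtype) hn sq (fun k hk => Subtype.ext (faith k fun m => hk m)) ?_ hge
    (by rw [hcardB]; exact h2) ?_
  · intro b hb
    rw [hQ]
    obtain ⟨y, hy, hyb⟩ := hBR hb
    have h1 : y = b := Subtype.ext hyb
    rw [← h1]
    exact hy
  · intro c hc hc1 hcc
    obtain ⟨k, h3, h4, q, hq, h5, h6⟩ := yt_of hz c ((hQ c).1 hc) hc1 fun q hq => hcc q ((hQ q).2 hq)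
    exact ⟨k, h3, fun q hq => (hQ _).2 (h4 q ((hQ q).1 hq)), q, (hQ q).2 hq, h5, h6⟩

end

/-- **The row of a class of groups with a sheet of type (E) and `TrivC`.** -/
theorem deadX_of_sheet {𝒮 : ∀ (S : Type u) [Group S], Prop}
    (hS : ∀ (S : Type u) [Group S] [Finite S], 𝒮 S → ∃ (z : S) (P R : Subgroup S) (n : ℕ), SheetE z P R ∧ 2 ≤ n ∧
      Nat.card R = 2 ^ (2 * n + 1) ∧ TrivC.{u, v, u} (centralizer ({z} : Set S)) P n) : DeadX.{u, v} 𝒮 := by
  intro H _ _ M _ _ _ K T A h hK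
  obtain ⟨z, P, R, n, hsh, hn, hcard, ht⟩ := hS K hK
  obtain ⟨g, hg⟩ := h.asx.le_conj (of_sheetE hsh)
  exact false_of_sub h.sq h.faith h.exact.le (lt_of_lt_of_le (by norm_num) h.four) hn hsh hcard ht hg

end Cfsg.Agent.Omega.ML.ExEx.SheetRow
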